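import Groth.Agent.WeierIso.Basic
import Mathlib.Tactic.LinearCombination

/-!
The two cases `2 ∉ p` and `2 ∈ p`.
-/

set_option autoImplicit false
set_option linter.style.haveILetI false
set_option backward.isDefEq.respectTransparency false
set_option backward.isDefEq.respectTransparency.types false
set_option maxHeartbeats 1000000

universe u

open WeierstrassCurve

namespace Groth.Agent.WeierIso

variable {A : Type u} [CommRing A] {W W' : WeierstrassCurve A} {p : PrimeSpectrum A}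

theorem notMem_of_isUnit {x : A} (hx : IsUnit x) : x ∉ p.asIdeal := fun h =>
  p.isPrime.ne_top (Ideal.eq_top_of_isUnit_mem _ h hx)

theorem mem_mk_iff {x : A} : Ideal.Quotient.mk p.asIdeal x = 0 ↔ x ∈ p.asIdeal :=
  Ideal.Quotient.eq_zero_iff_mem

/-- Short models with the same invariants, `3` invertible. -/
theorem good_three (h2 : IsUnit (2 : A)) (h3 : IsUnit (3 : A)) (hW1 : W.a₁ = 0) (hW3 : W.a₃ = 0)
    (hW1' : W'.a₁ = 0) (hW3' : W'.a₃ = 0) (h4 : W.c₄ = W'.c₄) (h6 : W.c₆ = W'.c₆) :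
    Good W W' p := by
  obtain ⟨i2, hi2⟩ := h2.exists_left_inv
  obtain ⟨i3, hi3⟩ := h3.exists_left_inv
  let r : A := (W'.b₂ - W.b₂) * (i2 * i2 * i3)
  let C : VariableChange A := ⟨1, r, 0, 0⟩
  have hb2 : (C • W).b₂ = W'.b₂ := by
    rw [variableChange_b₂]; simp only [C, inv_one, Units.val_one]
    linear_combination (W'.b₂ - W.b₂) * (2 * i2 * 3 * i3 + 3 * i3) * hi2 +
      (W'.b₂ - W.b₂) * hi3
  have hc4 : (C • W).c₄ = W'.c₄ := by
    rw [variableChange_c₄]; simp only [C, inv_one, Units.val_one, h4]; ring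
  have hc6 : (C • W).c₆ = W'.c₆ := by
    rw [variableChange_c₆]; simp only [C, inv_one, Units.val_one, h6]; ring
  have h1 : (C • W).a₁ = 0 := by simp [C, variableChange_def, hW1]
  have h3' : (C • W).a₃ = 0 := by simp [C, variableChange_def, hW1, hW3]
  refine Good.of_eq C ?_
  generalize C • W = V at *
  have u2 : IsUnit (2 : A) := h2
  have hb4 : V.b₄ = W'.b₄ := by
    have : (2 ^ 3 * 3 : A) * V.b₄ = 2 ^ 3 * 3 * W'.b₄ := by
      simp only [c₄, hb2] at hc4
      linear_combination -hc4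
    exact ((h2.pow 3).mul h3).mul_left_cancel this
  have hb6 : V.b₆ = W'.b₆ := by
    have : (2 ^ 3 * 3 ^ 3 : A) * V.b₆ = 2 ^ 3 * 3 ^ 3 * W'.b₆ := by
      simp only [c₆, hb2, hb4] at hc6
      linear_combination -hc6
    exact ((h2.pow 3).mul (h3.pow 3)).mul_left_cancel this
  simp only [b₂, b₄, b₆, h1, h3', hW1', hW3', mul_zero, zero_mul, add_zero, ne_eq,
    OfNat.ofNat_ne_zero, not_false_eq_true, zero_pow, zero_add] at hb2 hb4 hb6
  ext
  · rw [h1, hW1']
  · exact (h2.pow 2).mul_left_cancel (by linear_combination hb2)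
  · rw [h3', hW3']
  · exact h2.mul_left_cancel hb4
  · exact (h2.pow 2).mul_left_cancel (by linear_combination hb6)

/-- Short models with the same `b₂, b₄, Δ`, residue characteristic `3`. -/
theorem good_three'_aux (h2 : IsUnit (2 : A)) (h3 : (3 : A) ∈ p.asIdeal)
    (hb : W.b₂ ∉ p.asIdeal) (hW1 : W.a₁ = 0) (hW3 : W.a₃ = 0) (hW1' : W'.a₁ = 0)
    (hW3' : W'.a₃ = 0) (hb2 : W.b₂ = W'.b₂) (hb4 : W.b₄ = W'.b₄) (hΔ : W.Δ = W'.Δ) :
    Good W W' p := by
  have hx : -W.b₂ ^ 3 + 36 * W.b₂ * W.b₄ - 108 * (W.b₆ + W'.b₆) ∉ p.asIdeal := by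
    rw [← mem_mk_iff]
    have e3 : Ideal.Quotient.mk p.asIdeal (3 : A) = 0 := mem_mk_iff.mpr h3
    rw [map_ofNat] at e3
    simp only [map_sub, map_add, map_mul, map_neg, map_pow, map_ofNat]
    intro h
    apply hb
    rw [← mem_mk_iff]
    refine eq_zero_of_pow_eq_zero (n := 3) ?_
    linear_combination -h + (12 * Ideal.Quotient.mk p.asIdeal W.b₂ * Ideal.Quotient.mk p.asIdeal W.b₄
      - 36 * (Ideal.Quotient.mk p.asIdeal W.b₆ + Ideal.Quotient.mk p.asIdeal W'.b₆)) * e3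
  refine Good.of_away _ hx fun B _ f q _ hu => ?_
  have h2B : IsUnit (2 : B) := by simpa only [map_ofNat] using h2.map f
  have hb6 : f W.b₆ = f W'.b₆ := by
    have key : (-W.b₂ ^ 3 + 36 * W.b₂ * W.b₄ - 108 * (W.b₆ + W'.b₆)) * (W.b₆ - W'.b₆) = 0 := by
      have r1 := W.b_relation
      have r2 := W'.b_relation
      simp only [Δ] at hΔ
      simp only [← hb2, ← hb4] at hΔ r2
      linear_combination 4 * hΔ + W.b₂ ^ 2 * r1 - W.b₂ ^ 2 * r2
    have := congrArg f key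
    rw [map_mul, map_zero, map_sub f W.b₆] at this
    exact sub_eq_zero.mp ((hu.mul_right_eq_zero).mp this)
  simp only [b₂, b₄, b₆, hW1, hW3, hW1', hW3', mul_zero, zero_mul, add_zero, ne_eq,
    OfNat.ofNat_ne_zero, not_false_eq_true, zero_pow, zero_add, map_mul, map_ofNat] at hb2 hb4 hb6
  refine Good.of_eq 1 ?_
  rw [one_smul]
  ext <;> simp only [map_a₁, map_a₂, map_a₃, map_a₄, map_a₆]
  · rw [hW1, hW1']
  · exact congrArg f ((h2.pow 2).mul_left_cancel (by linear_combination hb2))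
  · rw [hW3, hW3']
  · exact congrArg f (h2.mul_left_cancel hb4)
  · exact (h2B.pow 2).mul_left_cancel (by linear_combination hb6)

theorem good_three' (h2 : IsUnit (2 : A)) (h3 : (3 : A) ∈ p.asIdeal) (hu : IsUnit W.c₄)
    (hW1 : W.a₁ = 0) (hW3 : W.a₃ = 0) (hW1' : W'.a₁ = 0) (hW3' : W'.a₃ = 0)
    (h4 : W.c₄ = W'.c₄) (h6 : W.c₆ = W'.c₆) (hΔ : W.Δ = W'.Δ) :
    Good W W' p := by
  set π := Ideal.Quotient.mk p.asIdeal with hπ
  have e3 : π (3 : A) = 0 := mem_mk_iff.mpr h3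
  rw [map_ofNat] at e3
  have e4 := congrArg π h4
  have e6 := congrArg π h6
  have hc : π W.c₄ ≠ 0 := fun h => notMem_of_isUnit hu (mem_mk_iff.mp h)
  simp only [c₄, c₆, map_sub, map_add, map_mul, map_neg, map_pow, map_ofNat] at e4 e6 hc
  have sq : π W.b₂ ^ 2 = π W'.b₂ ^ 2 := by
    linear_combination e4 + (8 * π W.b₄ - 8 * π W'.b₄) * e3
  have cb : π W.b₂ ^ 3 = π W'.b₂ ^ 3 := by
    linear_combination -e6 + (12 * π W.b₂ * π W.b₄ - 12 * π W'.b₂ * π W'.b₄
      - 72 * π W.b₆ + 72 * π W'.b₆) * e3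
  have hb0 : π W.b₂ ≠ 0 := fun h => hc (by linear_combination π W.b₂ * h - 8 * π W.b₄ * e3)
  have heq : π W.b₂ = π W'.b₂ :=
    mul_left_cancel₀ (pow_ne_zero 2 hb0)
      (by linear_combination cb - π W'.b₂ * sq)
  have h2p : π (2 : A) ≠ 0 := fun h => notMem_of_isUnit h2 (mem_mk_iff.mp h)
  have hs : W.b₂ + W'.b₂ ∉ p.asIdeal := by
    rw [← mem_mk_iff]
    show ¬ π (W.b₂ + W'.b₂) = 0
    rw [map_add, ← heq, ← two_mul]
    rw [map_ofNat] at h2p
    exact mul_ne_zero h2p hb0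
  refine Good.of_away _ hs fun B _ f q hq hus => ?_
  obtain ⟨i, hi⟩ := hus.exists_left_inv
  rw [map_add] at hi
  let C : VariableChange B := ⟨1, 2 * (f W'.b₄ - f W.b₄) * i, 0, 0⟩
  refine Good.of_vc C 1 ?_
  rw [one_smul]
  have k4 := congrArg f h4
  simp only [c₄, map_sub, map_mul, map_pow, map_ofNat] at k4
  have hb2 : (C • W.map f).b₂ = (W'.map f).b₂ := by
    rw [variableChange_b₂]
    simp only [C, inv_one, Units.val_one, map_b₂, map_b₄]
    linear_combination i * k4 - (f W.b₂ - f W'.b₂) * hi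
  have hb4 : (C • W.map f).b₄ = (W'.map f).b₄ := by
    rw [variableChange_b₄]
    simp only [C, inv_one, Units.val_one, map_b₂, map_b₄]
    rw [variableChange_b₂] at hb2
    simp only [C, inv_one, Units.val_one, map_b₂, map_b₄] at hb2
    linear_combination (f W'.b₄ - f W.b₄) * i * hb2 + (f W'.b₄ - f W.b₄) * hi
  refine good_three'_aux ?_ ?_ ?_ ?_ ?_ ?_ ?_ hb2 hb4 ?_
  · simpa only [map_ofNat] using h2.map f
  · rw [← map_ofNat f, mem_iff_of_comap hq]; exact h3
  · rw [hb2, map_b₂, mem_iff_of_comap hq, ← mem_mk_iff]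
    show ¬ π W'.b₂ = 0
    rwa [← heq]
  · simp [C, variableChange_def, hW1]
  · simp [C, variableChange_def, hW1, hW3]
  · simp [hW1']
  · simp [hW3']
  · rw [variableChange_Δ]; simp only [C, inv_one, Units.val_one, map_Δ, hΔ]; ring

/-- The case `2 ∉ p`. -/
theorem good_two (h2p : (2 : A) ∉ p.asIdeal) (h4 : IsUnit W.c₄) (h6 : IsUnit W.c₆)
    (h4' : IsUnit W'.c₄) (h6' : IsUnit W'.c₆) (hj : W.c₄ ^ 3 * W'.Δ = W'.c₄ ^ 3 * W.Δ) :
    Good W W' p := by
  have hc : W.c₄ ^ 3 * W'.c₆ ^ 2 = W'.c₄ ^ 3 * W.c₆ ^ 2 := by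
    linear_combination -1728 * hj + W.c₄ ^ 3 * W'.c_relation - W'.c₄ ^ 3 * W.c_relation
  obtain ⟨i4, hi4⟩ := h4.exists_left_inv
  obtain ⟨i4', hi4'⟩ := h4'.exists_left_inv
  obtain ⟨i6', hi6'⟩ := h6'.exists_left_inv
  obtain ⟨i6, hi6⟩ := h6.exists_left_inv
  let d : A := W.c₆ * W'.c₄ * i6' * i4
  have hd2 : d ^ 2 * W'.c₄ = W.c₄ := by
    simp only [d]
    linear_combination (-i6' ^ 2 * i4 ^ 2) * hc + W.c₄ * (i6' * W'.c₆ + 1) * hi6' +
      W.c₄ * i6' ^ 2 * W'.c₆ ^ 2 * (i4 * W.c₄ + 1) * hi4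
  have hd3 : d ^ 3 * W'.c₆ = W.c₆ := by
    have h : d * W'.c₆ * W.c₄ = W.c₆ * W'.c₄ := by
      simp only [d]
      linear_combination W.c₆ * W'.c₄ * i4 * W.c₄ * hi6' + W.c₆ * W'.c₄ * hi4
    apply (h4.mul h4').mul_left_cancel
    linear_combination W.c₄ * W'.c₆ * d * hd2 + W.c₄ * h
  have hdu : IsUnit d :=
    ((h6.mul h4').mul (IsUnit.of_mul_eq_one W'.c₆ hi6')).mul (IsUnit.of_mul_eq_one W.c₄ hi4)
  refine Good.of_away (2 : A) h2p fun B _ f q hq hu2 => ?_
  rw [map_ofNat] at hu2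
  refine Good.of_root 0 (-f d) ?_ fun R _ g q' hq' s hs => ?_
  · have : IsUnit (2 * 2 * f d) := (hu2.mul hu2).mul (hdu.map f)
    convert this using 1; ring
  have hs2 : s ^ 2 = g (f d) := by simp only [map_zero, map_neg] at hs; linear_combination hs
  have hsu : IsUnit s := (isUnit_pow_iff two_ne_zero).mp (hs2 ▸ (hdu.map f).map g)
  have hu2R : IsUnit (2 : R) := by simpa only [map_ofNat] using hu2.map g
  obtain ⟨half, hhalf⟩ := hu2R.exists_left_inv
  let φ := g.comp f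
  rw [map_map, map_map]
  change Good (W.map φ) (W'.map φ) q'
  let C : VariableChange R := ⟨hsu.unit, 0, 0, 0⟩ * ⟨1, 0, -(φ W.a₁ * half), -(φ W.a₃ * half)⟩
  let C' : VariableChange R := ⟨1, 0, -(φ W'.a₁ * half), -(φ W'.a₃ * half)⟩
  refine Good.of_vc C C' ?_
  have a1 : (C • W.map φ).a₁ = 0 := by
    simp only [C, VariableChange.mul_def, variableChange_a₁, map_a₁]
    simp only [Units.val_one, mul_one, one_mul, zero_add, mul_zero]
    linear_combination (-(↑hsu.unit⁻¹ : R) * φ W.a₁) * hhalf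
  have a3 : (C • W.map φ).a₃ = 0 := by
    simp only [C, VariableChange.mul_def, variableChange_a₃, map_a₁, map_a₃]
    simp only [Units.val_one, mul_one, one_mul, zero_add, mul_zero, zero_mul, one_pow, add_zero]
    linear_combination (-(↑hsu.unit⁻¹ : R) ^ 3 * φ W.a₃) * hhalf
  have a1' : (C' • W'.map φ).a₁ = 0 := by
    simp only [C', variableChange_a₁, map_a₁, inv_one, Units.val_one]
    linear_combination -φ W'.a₁ * hhalf
  have a3' : (C' • W'.map φ).a₃ = 0 := by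
    simp only [C', variableChange_a₃, map_a₁, map_a₃, inv_one, Units.val_one]
    linear_combination -φ W'.a₃ * hhalf
  have hcu : (C.u : R) = s := by
    simp [C, VariableChange.mul_def]
  have hcu' : C'.u = 1 := rfl
  have hinv : (↑C.u⁻¹ : R) * s = 1 := by rw [← hcu]; exact C.u.inv_mul
  have hs2' : φ d = s ^ 2 := hs2.symm
  have c4 : (C • W.map φ).c₄ = (C' • W'.map φ).c₄ := by
    rw [variableChange_c₄, variableChange_c₄, hcu', map_c₄, map_c₄, ← hd2, map_mul, map_pow, hs2']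
    simp only [inv_one, Units.val_one, one_pow, one_mul]
    linear_combination φ W'.c₄ * (↑C.u⁻¹ * s + 1) * ((↑C.u⁻¹ * s) ^ 2 + 1) * hinv
  have c6 : (C • W.map φ).c₆ = (C' • W'.map φ).c₆ := by
    rw [variableChange_c₆, variableChange_c₆, hcu', map_c₆, map_c₆, ← hd3, map_mul, map_pow, hs2']
    simp only [inv_one, Units.val_one, one_pow, one_mul]
    linear_combination φ W'.c₆ * pow_mul_pow_eq_one 6 hinv
  have cΔ : (C • W.map φ).Δ = (C' • W'.map φ).Δ := by
    rw [variableChange_Δ, variableChange_Δ, hcu', map_Δ, map_Δ]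
    simp only [inv_one, Units.val_one, one_pow, one_mul]
    have hd6 : d ^ 6 * W'.Δ = W.Δ := by
      apply (h4'.pow 3).mul_left_cancel
      linear_combination hj + W'.Δ * ((d ^ 2 * W'.c₄) ^ 2 + d ^ 2 * W'.c₄ * W.c₄ + W.c₄ ^ 2) * hd2
    rw [← hd6, map_mul, map_pow, hs2']
    linear_combination φ W'.Δ * pow_mul_pow_eq_one 12 hinv
  have hc4u : IsUnit (C • W.map φ).c₄ := by
    rw [variableChange_c₄, map_c₄]
    exact (C.u⁻¹.isUnit.pow 4).mul (h4.map φ)
  by_cases h3 : (3 : R) ∈ q'.asIdeal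
  · exact good_three' hu2R h3 hc4u a1 a3 a1' a3' c4 c6 cΔ
  · refine Good.of_away (3 : R) h3 fun S _ k q'' _ hu3 => ?_
    rw [map_ofNat] at hu3
    refine good_three (by simpa only [map_ofNat] using hu2R.map k) hu3 ?_ ?_ ?_ ?_ ?_ ?_
    · rw [map_a₁, a1, map_zero]
    · rw [map_a₃, a3, map_zero]
    · rw [map_a₁, a1', map_zero]
    · rw [map_a₃, a3', map_zero]
    · rw [map_c₄, map_c₄, c4]
    · rw [map_c₆, map_c₆, c6]

/-- The curve `y² + xy = x³ + a₂ x² + a₆` case. -/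
theorem good_normal (h2 : (2 : A) ∈ p.asIdeal) (hW1 : W.a₁ = 1) (hW3 : W.a₃ = 0) (hW4 : W.a₄ = 0)
    (hW1' : W'.a₁ = 1) (hW3' : W'.a₃ = 0) (hW4' : W'.a₄ = 0)
    (hj : W.c₄ ^ 3 * W'.Δ = W'.c₄ ^ 3 * W.Δ) : Good W W' p := by
  set e := 1 + 4 * W.a₂ with he
  set e' := 1 + 4 * W'.a₂ with he'
  set X := e ^ 3 * W'.a₆ with hX
  set Y := e' ^ 3 * W.a₆ with hY
  have key : (e ^ 3 * e' ^ 3 + 432 * (X + Y)) * (e ^ 3 * e' ^ 3 * (X - Y)) = 0 := by
    simp only [c₄, Δ, b₂, b₄, b₆, b₈, hW1, hW3, hW4, hW1', hW3', hW4'] at hj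
    simp only [hX, hY, he, he']
    linear_combination (-(1 + 4 * W.a₂) ^ 3 * (1 + 4 * W'.a₂) ^ 3) * hj
  have hx : e * e' * (e ^ 3 * e' ^ 3 + 432 * (X + Y)) ∉ p.asIdeal := by
    rw [← mem_mk_iff]
    have e2 : Ideal.Quotient.mk p.asIdeal (2 : A) = 0 := mem_mk_iff.mpr h2
    rw [map_ofNat] at e2
    simp only [he, he', map_add, map_mul, map_pow, map_ofNat, map_one]
    intro h
    apply one_ne_zero (α := A ⧸ p.asIdeal)
    simp only [show (4 : A ⧸ p.asIdeal) = 2 * 2 by norm_num,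
      show (432 : A ⧸ p.asIdeal) = 2 * 216 by norm_num, e2, zero_mul, add_zero, one_pow,
      one_mul] at h
    exact h
  refine Good.of_away _ hx fun B _ f q _ hu => ?_
  rw [map_mul, map_mul] at hu
  obtain ⟨hu12, huF⟩ := IsUnit.mul_iff.mp hu
  obtain ⟨hue, hue'⟩ := IsUnit.mul_iff.mp hu12
  obtain ⟨j', hj'⟩ := hue'.exists_left_inv
  have hXY : f X = f Y := by
    have := congrArg f key
    rw [map_mul, map_zero, huF.mul_right_eq_zero, map_mul, map_mul, map_pow, map_pow,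
      ((hue.pow 3).mul (hue'.pow 3)).mul_right_eq_zero, map_sub] at this
    exact sub_eq_zero.mp this
  let Q : B := (f W.a₂ - f W'.a₂) * j'
  have hD : 1 + 4 * Q = f e * j' := by
    simp only [Q, he, he'] at hj' ⊢
    simp only [map_add, map_mul, map_ofNat, map_one] at hj' ⊢
    linear_combination -hj'
  refine Good.of_root 1 (-Q) ?_ fun R _ g q' _ s hs => ?_
  · have : IsUnit (f e * j') := hue.mul (IsUnit.of_mul_eq_one _ hj')
    rw [← hD] at this
    convert this using 1; ring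
  simp only [map_one, map_neg, one_mul] at hs
  rw [map_map, map_map]
  have husq : (1 + 2 * s) ^ 2 = g (f e * j') := by
    rw [← hD, map_add, map_mul, map_one, map_ofNat]; linear_combination 4 * hs
  have huU : IsUnit (1 + 2 * s) := (isUnit_pow_iff two_ne_zero).mp
    (husq ▸ (hue.mul (IsUnit.of_mul_eq_one _ hj')).map g)
  let C : VariableChange R := ⟨huU.unit, 0, s, 0⟩
  have hw : (↑huU.unit⁻¹ : R) * (1 + 2 * s) = 1 := huU.val_inv_mul
  have hje : g j' * (1 + 4 * g (f W'.a₂)) = 1 := by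
    have := congrArg g hj'
    simpa only [he', map_add, map_mul, map_ofNat, map_one] using this
  have hQ : s ^ 2 + s = (g (f W.a₂) - g (f W'.a₂)) * g j' := by
    simp only [Q, map_mul, map_sub] at hs
    linear_combination hs
  have h6 : g j' ^ 3 * g (f e) ^ 3 * g (f W'.a₆) = g (f W.a₆) := by
    have h := congrArg g hXY
    simp only [hX, hY, map_mul, map_pow] at h
    have hje' : g j' * g (f e') = 1 := by rw [← map_mul, hj', map_one]
    linear_combination g j' ^ 3 * h + g (f W.a₆) * pow_mul_pow_eq_one 3 hje'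
  refine Good.of_eq C ?_
  ext <;> simp only [C, variableChange_def, map_a₁, map_a₂, map_a₃, map_a₄, map_a₆,
    RingHom.comp_apply, hW1, hW3, hW4, hW1', hW3', hW4', map_one, map_zero]
  · linear_combination hw
  · linear_combination (↑huU.unit⁻¹ : R) ^ 2 * (-(1 + 4 * g (f W'.a₂))) * hQ
      + (↑huU.unit⁻¹ : R) ^ 2 * (-(g (f W.a₂) - g (f W'.a₂))) * hje
      + g (f W'.a₂) * ((↑huU.unit⁻¹ : R) * (1 + 2 * s) + 1) * hw
  · ring
  · ring
  · rw [map_mul] at husq
    linear_combination (-(↑huU.unit⁻¹ : R) ^ 6) * h6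
      - g (f W'.a₆) * (↑huU.unit⁻¹ : R) ^ 6 *
        ((1 + 2 * s) ^ 4 + (1 + 2 * s) ^ 2 * (g (f e) * g j') + (g (f e) * g j') ^ 2) * husq
      + g (f W'.a₆) * pow_mul_pow_eq_one 6 hw

/-- Normalising when `2 ∈ p`. -/
theorem exists_normal (h2 : (2 : A) ∈ p.asIdeal) (h4 : IsUnit W.c₄)
    (hcont : ∀ (B : Type u) [CommRing B] (f : A →+* B) (q : PrimeSpectrum B),
      PrimeSpectrum.comap f q = p → ∀ C : VariableChange B,
        (C • W.map f).a₁ = 1 → (C • W.map f).a₃ = 0 → (C • W.map f).a₄ = 0 →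
        Good (W.map f) (W'.map f) q) : Good W W' p := by
  have ha1 : W.a₁ ∉ p.asIdeal := by
    intro h
    have := notMem_of_isUnit (p := p) h4
    apply this
    rw [← mem_mk_iff] at h h2 ⊢
    simp only [c₄, b₂, b₄, map_sub, map_add, map_mul, map_pow, map_ofNat] at h2 ⊢
    simp only [h, show (4 : A ⧸ p.asIdeal) = 2 * 2 by norm_num,
      show (24 : A ⧸ p.asIdeal) = 2 * 12 by norm_num, h2]
    ring
  refine Good.of_away _ ha1 fun B _ f q hq hu1 => ?_
  let C1 : VariableChange B := ⟨hu1.unit, 0, 0, 0⟩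
  let C2 : VariableChange B := ⟨1, -(C1 • W.map f).a₃, 0, 0⟩
  have e1 : ((C2 * C1) • W.map f).a₁ = 1 := by
    rw [mul_smul]
    simp only [C2, C1, variableChange_a₁, map_a₁, inv_one, Units.val_one, mul_zero, add_zero,
      one_mul]
    exact hu1.val_inv_mul
  have e3 : ((C2 * C1) • W.map f).a₃ = 0 := by
    rw [mul_smul]
    simp only [C2, variableChange_a₃, inv_one, Units.val_one]
    have : (C1 • W.map f).a₁ = 1 := by
      simp only [C1, variableChange_a₁, map_a₁, mul_zero, add_zero]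
      exact hu1.val_inv_mul
    simp only [variableChange_a₁, variableChange_a₃] at this ⊢
    linear_combination (-(↑C1.u⁻¹ : B) ^ 3 * ((W.map f).a₃ + C1.r * (W.map f).a₁ + 2 * C1.t)) * this
  set V := (C2 * C1) • W.map f with hV
  have hVc : IsUnit V.c₄ := by
    rw [hV, variableChange_c₄, map_c₄]
    exact (Units.isUnit _).pow 4 |>.mul (h4.map f)
  have hdisc : IsUnit ((-(1 + 4 * V.a₂)) ^ 2 - 4 * (12 * V.a₄)) := by
    convert hVc using 1
    simp only [c₄, b₂, b₄, e1, e3]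
    ring
  refine Good.of_root (-(1 + 4 * V.a₂)) (12 * V.a₄) hdisc fun R _ g q' hq' v hv => ?_
  have hq2 : (2 : R) ∈ q'.asIdeal := by
    rw [← map_ofNat g, mem_iff_of_comap hq', ← map_ofNat f, mem_iff_of_comap hq]; exact h2
  simp only [map_neg, map_add, map_mul, map_ofNat, map_one] at hv
  obtain ⟨w, hw, hwq⟩ : ∃ w : R, w ^ 2 + -(1 + 4 * g V.a₂) * w + 12 * g V.a₄ = 0 ∧
      w ∉ q'.asIdeal := by
    by_cases hvq : v ∈ q'.asIdeal
    · refine ⟨1 + 4 * g V.a₂ - v, by linear_combination hv, fun h => ?_⟩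
      have h4q : (4 : R) * g V.a₂ ∈ q'.asIdeal := by
        rw [show (4 : R) = 2 * 2 by norm_num, mul_assoc]; exact Ideal.mul_mem_right _ _ hq2
      apply q'.isPrime.ne_top
      rw [Ideal.eq_top_iff_one]
      have h1 := Ideal.sub_mem _ (Ideal.add_mem _ h hvq) h4q
      convert h1 using 1; ring
    · exact ⟨v, hv, hvq⟩
  refine Good.of_away w hwq fun S _ k q'' hq'' huw => ?_
  obtain ⟨iw, hiw⟩ := huw.exists_left_inv
  rw [map_map, map_map, map_map, map_map]
  let φ := k.comp (g.comp f)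
  let t : S := k (g V.a₄) * iw
  let C3 : VariableChange S := ⟨1, -2 * t, 0, t⟩
  have hwS : k w ^ 2 + -(1 + 4 * k (g V.a₂)) * k w + 12 * k (g V.a₄) = 0 := by
    have := congrArg k hw
    simpa only [map_add, map_mul, map_pow, map_neg, map_ofNat, map_one, map_zero] using this
  have hVmap : ((C2 * C1).map (k.comp g)) • W.map φ = V.map (k.comp g) := by
    rw [hV, ← map_variableChange, map_map]; rfl
  refine hcont S φ q'' ?_ (C3 * (C2 * C1).map (k.comp g)) ?_ ?_ ?_
  · rw [← hq, ← hq', ← hq'']; rfl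
  all_goals rw [mul_smul, hVmap]
  · simp only [C3, variableChange_a₁, map_a₁, e1, map_one, inv_one, Units.val_one]
    ring
  · simp only [C3, variableChange_a₃, map_a₁, map_a₃, e1, e3, map_one, map_zero, inv_one,
      Units.val_one]
    ring
  · simp only [C3, variableChange_a₄, map_a₁, map_a₂, map_a₃, map_a₄, e1, e3, map_one, map_zero,
      inv_one, Units.val_one, RingHom.comp_apply, t]
    linear_combination (k (g V.a₄) * iw ^ 2) * hwS
      - k (g V.a₄) * (iw * k w + 1 - (1 + 4 * k (g V.a₂)) * iw) * hiw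

theorem Good.symm (h : Good W W' p) : Good W' W p := by
  obtain ⟨B, _, _, hB, hp, D, hD⟩ := h
  exact ⟨B, inferInstance, inferInstance, hB, hp, D⁻¹, by rw [← hD, inv_smul_smul]⟩

/-- The case `2 ∈ p`. -/
theorem good_two' (h2 : (2 : A) ∈ p.asIdeal) (h4 : IsUnit W.c₄) (h4' : IsUnit W'.c₄)
    (hj : W.c₄ ^ 3 * W'.Δ = W'.c₄ ^ 3 * W.Δ) : Good W W' p := by
  refine exists_normal h2 h4 fun B _ f q hq C a1 a3 a4 => Good.symm ?_
  have h2B : (2 : B) ∈ q.asIdeal := by rw [← map_ofNat f, mem_iff_of_comap hq]; exact h2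
  have h4B : IsUnit (W'.map f).c₄ := by rw [map_c₄]; exact h4'.map f
  refine exists_normal h2B h4B fun R _ g q' hq' C' a1' a3' a4' => Good.symm ?_
  have h2R : (2 : R) ∈ q'.asIdeal := by rw [← map_ofNat g, mem_iff_of_comap hq']; exact h2B
  refine Good.of_vc (C.map g) C' (good_normal h2R ?_ ?_ ?_ a1' a3' a4' ?_)
  · rw [map_variableChange, map_a₁, a1, map_one]
  · rw [map_variableChange, map_a₃, a3, map_zero]
  · rw [map_variableChange, map_a₄, a4, map_zero]
  · rw [variableChange_c₄, variableChange_c₄, variableChange_Δ, variableChange_Δ,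
      map_c₄, map_c₄, map_c₄, map_c₄, map_Δ, map_Δ, map_Δ, map_Δ]
    have h := congrArg g (congrArg f hj)
    simp only [map_mul, map_pow] at h
    linear_combination (↑(C.map g).u⁻¹ : R) ^ 12 * (↑C'.u⁻¹ : R) ^ 12 * h

end Groth.Agent.WeierIso
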