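import Mathlib.AlgebraicGeometry.EllipticCurve.VariableChange
import Mathlib.RingTheory.Etale.StandardEtale
import Mathlib.RingTheory.Etale.Basic
import Mathlib.RingTheory.AdjoinRoot
import Mathlib.RingTheory.Flat.FaithfullyFlat.Algebra
import Mathlib.RingTheory.Spectrum.Prime.Topology

/-!
Étale-local isomorphism of Weierstrass curves with the same `j`-invariant, away from `0, 1728`.
-/

set_option autoImplicit false
set_option linter.style.haveILetI false
set_option backward.isDefEq.respectTransparency false
set_option backward.isDefEq.respectTransparency.types false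
set_option maxHeartbeats 1000000

universe u

open Polynomial WeierstrassCurve

namespace Groth.Agent.WeierIso

/-- Two curves become isomorphic on an étale neighbourhood of `p`. -/
def Good {A : Type u} [CommRing A] (W W' : WeierstrassCurve A) (p : PrimeSpectrum A) : Prop :=
  ∃ (B : Type u) (_ : CommRing B) (_ : Algebra A B), Algebra.Etale A B ∧
    p ∈ Set.range (PrimeSpectrum.comap (algebraMap A B)) ∧
    ∃ C : VariableChange B, C • (W.map (algebraMap A B)) = W'.map (algebraMap A B)

variable {A : Type u} [CommRing A] {W W' : WeierstrassCurve A} {p : PrimeSpectrum A}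

theorem Good.of_eq (C : VariableChange A) (h : C • W = W') : Good W W' p :=
  ⟨A, inferInstance, Algebra.id A, inferInstance,
    ⟨p, PrimeSpectrum.ext (Ideal.comap_id _)⟩, C,
    by simpa only [Algebra.algebraMap_self, WeierstrassCurve.map_id] using h⟩

theorem Good.of_vc (C C' : VariableChange A) (h : Good (C • W) (C' • W') p) : Good W W' p := by
  obtain ⟨B, _, _, hB, hp, D, hD⟩ := h
  refine ⟨B, inferInstance, inferInstance, hB, hp,
    (C'.map (algebraMap A B))⁻¹ * (D * C.map (algebraMap A B)), ?_⟩
  rw [mul_smul, mul_smul, map_variableChange, hD, ← map_variableChange, inv_smul_smul]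

theorem Good.of_etale {R : Type u} [CommRing R] [Algebra A R] [Algebra.Etale A R]
    (q : PrimeSpectrum R) (hq : PrimeSpectrum.comap (algebraMap A R) q = p)
    (h : Good (W.map (algebraMap A R)) (W'.map (algebraMap A R)) q) : Good W W' p := by
  obtain ⟨B, _, _, hB, ⟨r, hr⟩, D, hD⟩ := h
  letI : Algebra A B := ((algebraMap R B).comp (algebraMap A R)).toAlgebra
  haveI : IsScalarTower A R B := IsScalarTower.of_algebraMap_eq' rfl
  refine ⟨B, inferInstance, inferInstance, Algebra.Etale.comp A R B, ⟨r, ?_⟩, D, ?_⟩
  · rw [← hq, ← hr]; rfl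
  · exact hD

theorem Good.of_away (x : A) (hx : x ∉ p.asIdeal)
    (h : ∀ (B : Type u) [CommRing B] (f : A →+* B) (q : PrimeSpectrum B),
      PrimeSpectrum.comap f q = p → IsUnit (f x) → Good (W.map f) (W'.map f) q) :
    Good W W' p := by
  haveI : Algebra.Etale A (Localization.Away x) := Algebra.Etale.of_isLocalizationAway x
  obtain ⟨q, hq⟩ : p ∈ Set.range (PrimeSpectrum.comap (algebraMap A (Localization.Away x))) := by
    rw [PrimeSpectrum.localization_away_comap_range (Localization.Away x) x]
    exact hx
  exact Good.of_etale q hq (h _ _ q hq (IsLocalization.Away.algebraMap_isUnit x))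

/-- A monic quadratic with unit discriminant has a root étale-locally. -/
theorem Good.of_root (α β : A) (hd : IsUnit (α ^ 2 - 4 * β))
    (h : ∀ (B : Type u) [CommRing B] (f : A →+* B) (q : PrimeSpectrum B),
      PrimeSpectrum.comap f q = p → ∀ s : B, s ^ 2 + f α * s + f β = 0 →
        Good (W.map f) (W'.map f) q) :
    Good W W' p := by
  haveI : Nontrivial A := p.nontrivial
  let P : A[X] := X ^ 2 + C α * X + C β
  have hP : P.Monic := by simp only [P]; monicity!
  have hdeg : P.natDegree = 2 := by simp only [P]; compute_degree!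
  obtain ⟨D, hD⟩ := hd.exists_left_inv
  have hsep : -(C D * 4) * P + C D * (2 * X + C α) * derivative P = 1 := by
    have h1 : derivative P = 2 * X + C α := by
      simp only [P, derivative_add, derivative_pow, derivative_X, derivative_C, derivative_mul]
      simp only [Nat.cast_ofNat, map_ofNat]
      ring
    have h2 : C D * (C α ^ 2 - 4 * C β) = 1 := by
      rw [← map_pow, ← map_ofNat (C : A →+* A[X]) 4, ← map_mul, ← map_sub, ← map_mul, hD, map_one]
    rw [h1]
    simp only [P]
    linear_combination h2
  haveI : Algebra.Etale A (AdjoinRoot P) := by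
    let S : StandardEtalePair A := ⟨P, hP, 1, C D * (2 * X + C α), -(C D * 4), 0, by
      rw [pow_zero, ← hsep]; ring⟩
    have hunit : IsUnit (AdjoinRoot.mk P (1 : A[X])) := by rw [map_one]; exact isUnit_one
    haveI : IsLocalization.Away (AdjoinRoot.mk P (1 : A[X])) (AdjoinRoot P) :=
      IsLocalization.away_of_isUnit_of_bijective _ hunit Function.bijective_id
    exact Algebra.Etale.of_equiv (S.equivAwayAdjoinRoot.trans
      ((IsLocalization.algEquiv (Submonoid.powers (AdjoinRoot.mk P (1 : A[X])))
        (Localization.Away (AdjoinRoot.mk P (1 : A[X]))) (AdjoinRoot P)).restrictScalars A))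
  haveI : Module.Free A (AdjoinRoot P) := hP.free_adjoinRoot
  haveI : Nontrivial (AdjoinRoot P) := by
    refine ⟨⟨AdjoinRoot.mk P 1, 0, fun h0 => ?_⟩⟩
    refine hP.not_dvd_of_natDegree_lt one_ne_zero ?_ (AdjoinRoot.mk_eq_zero.mp h0)
    rw [natDegree_one, hdeg]; norm_num
  obtain ⟨q, hq⟩ := PrimeSpectrum.comap_surjective_of_faithfullyFlat (B := AdjoinRoot P) p
  refine Good.of_etale q hq (h _ _ q hq (AdjoinRoot.root P) ?_)
  have := AdjoinRoot.eval₂_root P
  simp only [P, eval₂_add, eval₂_mul, eval₂_pow, eval₂_X, eval₂_C] at this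
  exact this

/-- If `p` is the image of `q`, membership is preserved. -/
theorem mem_iff_of_comap {B : Type u} [CommRing B] {f : A →+* B} {q : PrimeSpectrum B}
    (hq : PrimeSpectrum.comap f q = p) {x : A} : f x ∈ q.asIdeal ↔ x ∈ p.asIdeal := by
  rw [← hq]; rfl

end Groth.Agent.WeierIso
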